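import Groth.Agent.Lib.CentralAlg27.Stalk
import Mathlib.RingTheory.Flat.Basic

/-!
# Flatness of the stalks of a central sheaf of algebras
-/

set_option autoImplicit false
universe u

open CategoryTheory CategoryTheory.Limits AlgebraicGeometry Opposite TopologicalSpace

noncomputable section

namespace Groth.Agent.Lib.CentralAlg27

variable {X : Scheme.{u}} {A : Sheaf (Opens.grothendieckTopology X) RingCat.{u}}

variable (A) in
/-- The stalk of the unit module, as a group. -/
abbrev Ux (x : X) : Type u := Mx (SheafOfModules.unit A) x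

theorem agerm_eq_of_mgerm_eq {x : X} {U V : X.Opens} (hU : x ∈ U) (hV : x ∈ V) (a : A.obj.obj (op U))
    (b : A.obj.obj (op V)) (h : mgerm (SheafOfModules.unit A) hU a = mgerm (SheafOfModules.unit A) hV b) :
    agerm hU a = agerm hV b := by
  obtain ⟨W, hW, iU, iV, e⟩ := TopCat.Presheaf.germ_eq (SheafOfModules.unit A).val.presheaf x hU hV a b h
  rw [← agerm_res iU hW, ← agerm_res iV hW]
  exact congrArg _ e

theorem exists_rep (x : X) (z : Ux A x) :
    ∃ (U : X.Opens) (hU : x ∈ U) (a : A.obj.obj (op U)), mgerm (SheafOfModules.unit A) hU a = z :=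
  TopCat.Presheaf.exists_germ_eq (C := AddCommGrpCat.{u}) (SheafOfModules.unit A).val.presheaf z

/-- The comparison of the stalk of the unit module with the stalk of rings. -/
def unitFun (x : X) (z : Ux A x) : Ax A x :=
  agerm (exists_rep x z).choose_spec.choose (exists_rep x z).choose_spec.choose_spec.choose

theorem unitFun_germ {x : X} {U : X.Opens} (hU : x ∈ U) (a : A.obj.obj (op U)) :
    unitFun x (mgerm (SheafOfModules.unit A) hU a) = agerm hU a :=
  agerm_eq_of_mgerm_eq _ _ _ _ (exists_rep x (mgerm (SheafOfModules.unit A) hU a)).choose_spec.choose_spec.choose_spec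

theorem unitFun_bijective (x : X) : Function.Bijective (unitFun (A := A) x) := by
  constructor
  · intro z w h
    obtain ⟨U, hU, a, rfl⟩ := exists_rep x z
    obtain ⟨V, hV, b, rfl⟩ := exists_rep x w
    rw [unitFun_germ, unitFun_germ] at h
    obtain ⟨W, hW, iU, iV, e⟩ := TopCat.Presheaf.germ_eq (C := RingCat.{u}) A.obj x hU hV a b h
    exact TopCat.Presheaf.germ_ext (SheafOfModules.unit A).val.presheaf W hW iU iV e
  · intro z
    obtain ⟨U, hU, a, rfl⟩ := TopCat.Presheaf.exists_germ_eq (C := RingCat.{u}) A.obj z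
    exact ⟨mgerm (SheafOfModules.unit A) hU a, unitFun_germ hU a⟩

theorem unitFun_add {x : X} (z w : Ux A x) : unitFun x (z + w) = unitFun x z + unitFun x w := by
  obtain ⟨U, hU, a, rfl⟩ := exists_rep x z
  obtain ⟨V, hV, b, rfl⟩ := exists_rep x w
  have hW : x ∈ U ⊓ V := ⟨hU, hV⟩
  have ea : mgerm (SheafOfModules.unit A) hU a =
      mgerm (SheafOfModules.unit A) hW (A.obj.map (homOfLE inf_le_left).op a) :=
    (TopCat.Presheaf.germ_res_apply (SheafOfModules.unit A).val.presheaf (homOfLE inf_le_left) x hW a).symm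
  have eb : mgerm (SheafOfModules.unit A) hV b =
      mgerm (SheafOfModules.unit A) hW (A.obj.map (homOfLE inf_le_right).op b) :=
    (TopCat.Presheaf.germ_res_apply (SheafOfModules.unit A).val.presheaf (homOfLE inf_le_right) x hW b).symm
  rw [ea, eb]
  refine Eq.trans (congrArg (unitFun x) (map_add (TopCat.Presheaf.germ (SheafOfModules.unit A).val.presheaf
    (U ⊓ V) x hW).hom _ _).symm) ?_
  refine (unitFun_germ hW _).trans ((map_add (agerm hW) _ _).trans ?_)
  rw [unitFun_germ, unitFun_germ]

theorem unitFun_smul {x : X} (c : Ax A x) (z : Ux A x) : unitFun x (c • z) = c * unitFun x z := by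
  obtain ⟨U, hU, a, rfl⟩ := TopCat.Presheaf.exists_germ_eq (C := RingCat.{u}) A.obj c
  obtain ⟨V, hV, b, rfl⟩ := exists_rep x z
  have hW : x ∈ U ⊓ V := ⟨hU, hV⟩
  have ea : agerm (A := A) hU a = agerm hW (A.obj.map (homOfLE inf_le_left).op a) := (agerm_res _ hW a).symm
  have eb : mgerm (SheafOfModules.unit A) hV b =
      mgerm (SheafOfModules.unit A) hW (A.obj.map (homOfLE inf_le_right).op b) :=
    (TopCat.Presheaf.germ_res_apply (SheafOfModules.unit A).val.presheaf (homOfLE inf_le_right) x hW b).symm
  change unitFun x (agerm hU a • mgerm (SheafOfModules.unit A) hV b) =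
    agerm hU a * unitFun x (mgerm (SheafOfModules.unit A) hV b)
  rw [ea, eb]
  refine ((congrArg (unitFun x) (mgerm_smul (SheafOfModules.unit A) hW _ _)).symm.trans (unitFun_germ hW _)).trans ?_
  rw [unitFun_germ]
  exact map_mul (agerm hW) _ _

variable {φ : X.ringCatSheaf ⟶ A}

theorem flat_Ax (hcen : IsCentral φ) (h : FlatMod.IsFlat (X := X) ((R φ).obj (SheafOfModules.unit A))) (x : X) :
    @Module.Flat (X.presheaf.stalk x) (Ax A x) _ _ (hcen.algebra x).toModule := by
  letI := hcen.algebra x
  haveI : Module.Flat (X.presheaf.stalk x) (((R φ).obj (SheafOfModules.unit A)).presheaf.stalk x) := h x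
  let l : ((R φ).obj (SheafOfModules.unit A)).presheaf.stalk x →ₗ[X.presheaf.stalk x] Ax A x :=
    { toFun := fun z => unitFun x (show Ux A x from z)
      map_add' := fun z w => unitFun_add (show Ux A x from z) (show Ux A x from w)
      map_smul' := fun c z => by
        have h1 := rgerm_smul φ (SheafOfModules.unit A) x c z
        show unitFun x (show Ux A x from c • z) = rho φ x c * unitFun x (show Ux A x from z)
        rw [← unitFun_smul]
        exact congrArg (unitFun x) h1 }
  let e := LinearEquiv.ofBijective l (unitFun_bijective x)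
  exact Module.Flat.of_linearEquiv e.symm

end Groth.Agent.Lib.CentralAlg27
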