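import Groth.Agent.Lib.CentralAlg27.Flat
import Mathlib.Algebra.Category.ModuleCat.Presheaf.Free
import Mathlib.Algebra.Category.ModuleCat.Presheaf.Sheafification
import Mathlib.Topology.Sheaves.Sheafify
import Mathlib.RingTheory.Flat.Basic
import Mathlib.Algebra.DirectSum.Finsupp

/-!
# Every sheaf of modules over a flat central sheaf of algebras is a quotient of a flat one
-/

set_option autoImplicit false
universe u

open CategoryTheory CategoryTheory.Limits AlgebraicGeometry Opposite TopologicalSpace

noncomputable section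

namespace Groth.Agent.Lib.CentralAlg27

variable {X : Scheme.{u}} {A : Sheaf (Opens.grothendieckTopology X) RingCat.{u}} (M : SheafOfModules.{u} A)

/-- The sections of a module. -/
abbrev Idx : Type u := Σ U : X.Opens, M.val.obj (op U)

/-- Sections extending to an open. -/
abbrev FV (V : X.Opens) : Type u := {e : Idx M // V ≤ e.1}

/-- The presheaf of sets of sections extending to a given open. -/
abbrev Fp : (Opens X)ᵒᵖ ⥤ Type u where
  obj V := FV M V.unop
  map i := ↾fun e => ⟨e.1, i.unop.le.trans e.2⟩

/-- The presheaf of free modules. -/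
abbrev FPre : PresheafOfModules.{u} A.obj := PresheafOfModules.freeObj (R := A.obj) (Fp M)

/-- The flat cover. -/
def cover : SheafOfModules.{u} A := (PresheafOfModules.sheafification (𝟙 A.obj)).obj (FPre M)

/-- The unit of sheafification. -/
def eta : FPre M ⟶ (PresheafOfModules.restrictScalars (𝟙 A.obj)).obj (cover M).val :=
  (PresheafOfModules.sheafificationAdjunction (𝟙 A.obj)).unit.app (FPre M)

/-- The map of sets underlying the cover map. -/
def piSet : Fp M ⟶ ((PresheafOfModules.restrictScalars (𝟙 A.obj)).obj M.val).presheaf ⋙ forget _ where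
  app V := ↾fun e => M.val.presheaf.map (homOfLE e.2).op e.1.2
  naturality V W i := by
    ext e
    change M.val.presheaf.map (homOfLE (i.unop.le.trans e.2)).op e.1.2 =
      M.val.presheaf.map i (M.val.presheaf.map (homOfLE e.2).op e.1.2)
    rw [← CategoryTheory.comp_apply, ← Functor.map_comp]
    rfl

/-- The cover map. -/
def pi : cover M ⟶ M :=
  ((PresheafOfModules.sheafificationAdjunction (𝟙 A.obj)).homEquiv (FPre M) M).symm
    (PresheafOfModules.freeObjDesc (piSet M))

theorem epi_pi : Epi (pi M) := by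
  refine ⟨fun {Z} g h e => ?_⟩
  let adj := PresheafOfModules.sheafificationAdjunction (𝟙 A.obj)
  have e' := congrArg (adj.homEquiv (FPre M) Z) e
  have e'' : adj.homEquiv (FPre M) M (pi M) = PresheafOfModules.freeObjDesc (piSet M) :=
    Equiv.apply_symm_apply _ _
  replace e' := (adj.homEquiv_naturality_right (pi M) g).symm.trans (e'.trans (adj.homEquiv_naturality_right (pi M) h))
  rw [e''] at e'
  apply (SheafOfModules.forget A).map_injective
  refine PresheafOfModules.hom_ext fun U => ModuleCat.hom_ext (LinearMap.ext fun m => ?_)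
  let e₀ : (Fp M).obj U := ⟨⟨U.unop, m⟩, le_rfl⟩
  have := congrArg (fun k : FPre M ⟶ (PresheafOfModules.restrictScalars (𝟙 A.obj)).obj Z.val =>
    k.app U (ModuleCat.freeMk e₀)) e'
  have hm : (PresheafOfModules.freeObjDesc (piSet M)).app U (ModuleCat.freeMk e₀) = m := by
    refine (ModuleCat.freeDesc_apply _ _).trans ?_
    change M.val.presheaf.map (homOfLE (le_refl U.unop)).op m = m
    rw [show (homOfLE (le_refl U.unop)).op = 𝟙 U from rfl, M.val.presheaf.map_id]
    rfl
  change g.val.app U ((PresheafOfModules.freeObjDesc (piSet M)).app U (ModuleCat.freeMk e₀)) =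
    h.val.app U ((PresheafOfModules.freeObjDesc (piSet M)).app U (ModuleCat.freeMk e₀)) at this
  rw [hm] at this
  exact this

/-- The sections through a point. -/
abbrev Ix (x : X) : Type u := {e : Idx M // x ∈ e.1}

variable {M}

/-- The germ of a formal sum. -/
def Phi (x : X) (V : X.Opens) (hV : x ∈ V) : (FV M V →₀ A.obj.obj (op V)) →+ (Ix M x →₀ Ax A x) :=
  Finsupp.liftAddHom fun e => (Finsupp.singleAddHom (⟨e.1, e.2 hV⟩ : Ix M x)).comp (agerm (A := A) hV).toAddMonoidHom

theorem Phi_single (x : X) (V : X.Opens) (hV : x ∈ V) (e : FV M V) (a : A.obj.obj (op V)) :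
    Phi x V hV (Finsupp.single e a) = Finsupp.single (⟨e.1, e.2 hV⟩ : Ix M x) (agerm hV a) := by
  rw [Phi, Finsupp.liftAddHom_apply_single]
  rfl

/-- The value of the unit on sections. -/
def etaV (V : X.Opens) : (FV M V →₀ A.obj.obj (op V)) →+ (cover M).val.obj (op V) :=
  ((eta M).app (op V)).hom.toAddMonoidHom

theorem etaV_smul (V : X.Opens) (a : A.obj.obj (op V)) (p : FV M V →₀ A.obj.obj (op V)) :
    etaV V (a • p) = a • etaV V p :=
  ((eta M).app (op V)).hom.map_smul a p

/-- The restriction of formal sums. -/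
def resP {V W : X.Opens} (i : W ⟶ V) :
    (FV M V →₀ A.obj.obj (op V)) →+ (FV M W →₀ A.obj.obj (op W)) :=
  ((FPre M).map i.op).hom.toAddMonoidHom

theorem resP_single {V W : X.Opens} (i : W ⟶ V) (e : FV M V) (a : A.obj.obj (op V)) :
    resP i (Finsupp.single e a) = Finsupp.single (⟨e.1, i.le.trans e.2⟩ : FV M W) (A.obj.map i.op a) := by
  have h1 : Finsupp.single e a = a • (ModuleCat.freeMk (R := A.obj.obj (op V)) e) := by
    rw [ModuleCat.freeMk]
    exact (Finsupp.smul_single_one e a).symm
  rw [h1]
  refine ((FPre M).map_smul i.op a (ModuleCat.freeMk e)).trans ?_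
  have h2 : (FPre M).map i.op (ModuleCat.freeMk e) = ModuleCat.freeMk (⟨e.1, i.le.trans e.2⟩ : FV M W) :=
    ModuleCat.freeDesc_apply _ _
  refine (congrArg (A.obj.map i.op a • ·) h2).trans ?_
  exact Finsupp.smul_single_one _ _

theorem etaV_resP {V W : X.Opens} (i : W ⟶ V) (p : FV M V →₀ A.obj.obj (op V)) :
    etaV W (resP i p) = (cover M).val.presheaf.map i.op (etaV V p) :=
  PresheafOfModules.naturality_apply (eta M) i.op p

theorem Phi_resP {x : X} {V W : X.Opens} (i : W ⟶ V) (hW : x ∈ W) (p : FV M V →₀ A.obj.obj (op V)) :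
    Phi x W hW (resP i p) = Phi x V (i.le hW) p := by
  induction p using Finsupp.induction_linear with
  | zero => rw [map_zero, map_zero, map_zero]
  | add p q hp hq => rw [map_add, map_add, map_add, hp, hq]
  | single e a => rw [resP_single, Phi_single, Phi_single, agerm_res]

/-- The comparison of formal sums with the stalk of the cover. -/
def Psi (x : X) : (Ix M x →₀ Ax A x) →ₗ[Ax A x] Mx (cover M) x :=
  Finsupp.linearCombination (Ax A x) fun e =>
    mgerm (cover M) e.2 (etaV e.1.1 (Finsupp.single (⟨e.1, le_rfl⟩ : FV M e.1.1) 1))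

theorem Psi_Phi (x : X) (V : X.Opens) (hV : x ∈ V) (p : FV M V →₀ A.obj.obj (op V)) :
    Psi x (Phi x V hV p) = mgerm (cover M) hV (etaV V p) := by
  induction p using Finsupp.induction_linear with
  | zero =>
    rw [map_zero, map_zero, map_zero]
    exact (map_zero (TopCat.Presheaf.germ (cover M).val.presheaf V x hV).hom).symm
  | add p q hp hq =>
    rw [map_add, map_add, map_add, hp, hq]
    exact (map_add (TopCat.Presheaf.germ (cover M).val.presheaf V x hV).hom _ _).symm
  | single e a =>
    rw [Phi_single, Psi, Finsupp.linearCombination_single,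
      show Finsupp.single e a = a • Finsupp.single e (1 : A.obj.obj (op V)) from (Finsupp.smul_single_one e a).symm,
      etaV_smul, mgerm_smul]
    refine congrArg (agerm (A := A) hV a • ·) ?_
    have h := etaV_resP (homOfLE e.2) (Finsupp.single (⟨e.1, le_rfl⟩ : FV M e.1.1) 1)
    rw [resP_single, map_one] at h
    change mgerm (cover M) (e.2 hV) _ = mgerm (cover M) hV (etaV V (Finsupp.single (⟨e.1, e.2⟩ : FV M V) 1))
    rw [h]
    exact (TopCat.Presheaf.germ_res_apply (cover M).val.presheaf (homOfLE e.2) x hV _).symm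

theorem exists_Phi (x : X) (l : Ix M x →₀ Ax A x) : ∃ (V : X.Opens) (hV : x ∈ V)
    (p : FV M V →₀ A.obj.obj (op V)), Phi x V hV p = l := by
  induction l using Finsupp.induction_linear with
  | zero => exact ⟨⊤, trivial, 0, map_zero _⟩
  | add l m hl hm =>
    obtain ⟨V, hV, p, rfl⟩ := hl
    obtain ⟨W, hW, q, rfl⟩ := hm
    refine ⟨V ⊓ W, ⟨hV, hW⟩, resP (homOfLE inf_le_left) p + resP (homOfLE inf_le_right) q, ?_⟩
    rw [map_add, Phi_resP, Phi_resP]
  | single e c =>
    obtain ⟨U, hU, a, rfl⟩ := TopCat.Presheaf.exists_germ_eq (C := RingCat.{u}) A.obj c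
    refine ⟨U ⊓ e.1.1, ⟨hU, e.2⟩, Finsupp.single ⟨e.1, inf_le_right⟩ (A.obj.map (homOfLE inf_le_left).op a), ?_⟩
    rw [Phi_single, agerm_res]
    rfl

theorem Psi_bijective (x : X) : Function.Bijective (Psi (M := M) x) := by
  have hiso := TopCat.Presheaf.stalkFunctor_map_unit_toSheafify_isIso (X := (X : TopCat.{u})) x
    AddCommGrpCat.{u} (FPre M).presheaf
  have hb := (ConcreteCategory.isIso_iff_bijective _).1 hiso
  have hgerm : ∀ (V : X.Opens) (hV : x ∈ V) (p : FV M V →₀ A.obj.obj (op V)),
      (TopCat.Presheaf.stalkFunctor AddCommGrpCat.{u} x).map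
          (CategoryTheory.toSheafify (Opens.grothendieckTopology X) (FPre M).presheaf)
          (TopCat.Presheaf.germ (FPre M).presheaf V x hV p) = mgerm (cover M) hV (etaV V p) := fun V hV p =>
    TopCat.Presheaf.stalkFunctor_map_germ_apply (C := AddCommGrpCat.{u}) (F := (FPre M).presheaf) V x hV
      (CategoryTheory.toSheafify (Opens.grothendieckTopology X) (FPre M).presheaf) p
  constructor
  · refine (injective_iff_map_eq_zero _).2 fun l hl => ?_
    obtain ⟨V, hV, p, rfl⟩ := exists_Phi x l
    rw [Psi_Phi, ← hgerm] at hl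
    have h0 : TopCat.Presheaf.germ (FPre M).presheaf V x hV p = 0 := hb.1 (hl.trans (map_zero _).symm)
    obtain ⟨W, hW, i, i', e⟩ := TopCat.Presheaf.germ_eq (FPre M).presheaf x hV hV p 0
      (h0.trans (map_zero (TopCat.Presheaf.germ (FPre M).presheaf V x hV).hom).symm)
    have e' : resP i p = 0 := e.trans (map_zero ((FPre M).presheaf.map i'.op).hom)
    rw [← Phi_resP i hW p, e', map_zero]
  · intro z
    obtain ⟨w, rfl⟩ := hb.2 z
    obtain ⟨V, hV, p, rfl⟩ := TopCat.Presheaf.exists_germ_eq (FPre M).presheaf w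
    exact ⟨Phi x V hV p, (Psi_Phi x V hV p).trans (hgerm V hV p).symm⟩

variable {φ : X.ringCatSheaf ⟶ A}

theorem isFlat_cover (hcen : IsCentral φ) (h : FlatMod.IsFlat (X := X) ((R φ).obj (SheafOfModules.unit A))) :
    FlatMod.IsFlat (X := X) ((R φ).obj (cover M)) := fun x => by
  letI := hcen.algebra x
  haveI := flat_Ax hcen h x
  let l : (Ix M x →₀ Ax A x) →ₗ[X.presheaf.stalk x] ((R φ).obj (cover M)).presheaf.stalk x :=
    { toFun := fun z => Psi x z
      map_add' := map_add _
      map_smul' := fun c z => by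
        refine Eq.trans ?_ (rgerm_smul φ (cover M) x c (Psi x z)).symm
        rw [← map_smul]
        refine congrArg (Psi x) (Finsupp.ext fun e => ?_)
        rfl }
  classical
  haveI : Module.Flat (X.presheaf.stalk x) (Ix M x →₀ Ax A x) :=
    Module.Flat.of_linearEquiv (finsuppLEquivDirectSum (X.presheaf.stalk x) (Ax A x) (Ix M x))
  exact Module.Flat.of_linearEquiv (LinearEquiv.ofBijective l (Psi_bijective x)).symm

end Groth.Agent.Lib.CentralAlg27
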