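import Groth.Agent.Lib.CentralAlg27.Flat
import Mathlib.Topology.Sheaves.SheafCondition.UniqueGluing
import Mathlib.Algebra.Category.ModuleCat.EnoughInjectives
import Mathlib.Algebra.Category.ModuleCat.Injective
import Mathlib.LinearAlgebra.TensorProduct.Tower
import Mathlib.Algebra.Category.ModuleCat.Sheaf.Abelian

/-!
# Restriction of scalars along a flat central sheaf of algebras preserves injective objects
-/

set_option autoImplicit false
universe u

open CategoryTheory CategoryTheory.Limits AlgebraicGeometry Opposite TopologicalSpace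
open scoped TensorProduct

noncomputable section

namespace Groth.Agent.Lib.CentralAlg27

variable {X : Scheme.{u}} {A : Sheaf (Opens.grothendieckTopology X) RingCat.{u}}

/-- An injective module over a flat central algebra is injective over the base ring. -/
theorem injective_restrict {R B : Type u} [CommRing R] [Ring B] [Algebra R B] [Module.Flat R B]
    (J : Type u) [AddCommGroup J] [Module B J] [Module R J] [IsScalarTower R B J] [Module.Injective B J] :
    Module.Injective R J := by
  refine Module.Baer.injective fun I g => ?_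
  let i : B ⊗[R] I →ₗ[B] B ⊗[R] R := TensorProduct.AlgebraTensorModule.map LinearMap.id I.subtype
  have hi : Function.Injective i := Module.Flat.lTensor_preserves_injective_linearMap I.subtype I.injective_subtype
  let g' : B ⊗[R] I →ₗ[B] J :=
    TensorProduct.AlgebraTensorModule.lift ((LinearMap.toSpanSingleton B (↥I →ₗ[R] J) g : B →ₗ[B] ↥I →ₗ[R] J))
  obtain ⟨h, hh⟩ := Module.Injective.out i hi g'
  refine ⟨(h.restrictScalars R).comp ((TensorProduct.mk R B R) 1), fun r hr => ?_⟩
  have := hh (1 ⊗ₜ[R] (⟨r, hr⟩ : I))
  simp only [i, g', TensorProduct.AlgebraTensorModule.map_tmul, LinearMap.id_apply, Submodule.subtype_apply,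
    TensorProduct.AlgebraTensorModule.lift_tmul, LinearMap.toSpanSingleton_apply, one_smul] at this
  exact this

variable (A) (J : X → Type u) [∀ x, AddCommGroup (J x)] [∀ x, Module (Ax A x) (J x)]

/-- The sections of the product of skyscrapers. -/
abbrev GSec (U : X.Opens) : Type u := ∀ x : U, J x.1

/-- The action of sections. -/
instance gsecModule (U : X.Opens) : Module (A.obj.obj (op U)) (GSec J U) :=
  @Pi.module U (fun x => J x.1) (A.obj.obj (op U)) _ _
    (fun x => Module.compHom (J x.1) (agerm (A := A) x.2))

/-- The presheaf of groups of the product of skyscrapers. -/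
def gAb : (Opens X)ᵒᵖ ⥤ AddCommGrpCat.{u} where
  obj U := AddCommGrpCat.of (GSec J U.unop)
  map i := AddCommGrpCat.ofHom
    { toFun := fun f x => f ⟨x.1, i.unop.le x.2⟩
      map_zero' := rfl
      map_add' := fun _ _ => rfl }

instance (U : (Opens X)ᵒᵖ) : Module (A.obj.obj U) ((gAb J).obj U) := gsecModule A J U.unop

/-- The presheaf of modules of the product of skyscrapers. -/
def gPre : PresheafOfModules.{u} A.obj :=
  PresheafOfModules.ofPresheaf (R := A.obj) (gAb J) fun U V i a f =>
    funext fun (x : V.unop) => by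
      show agerm (A := A) (i.unop.le x.2) a • (show J x.1 from (show GSec J U.unop from f) ⟨x.1, i.unop.le x.2⟩) =
        agerm (A := A) x.2 (A.obj.map i a) • (show J x.1 from (show GSec J U.unop from f) ⟨x.1, i.unop.le x.2⟩)
      exact congrArg (· • (show J x.1 from (show GSec J U.unop from f) ⟨x.1, i.unop.le x.2⟩))
        (agerm_res (A := A) i.unop x.2 a).symm

theorem isSheaf_gAb : TopCat.Presheaf.IsSheaf (gAb J) := by
  rw [TopCat.Presheaf.isSheaf_iff_isSheafUniqueGluing]
  intro ι U sf hsf
  refine ⟨fun x => sf (Opens.mem_iSup.mp x.2).choose ⟨x.1, (Opens.mem_iSup.mp x.2).choose_spec⟩,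
    fun i => funext fun x => ?_, fun s hs => funext fun x => ?_⟩
  · exact congrFun (hsf _ i)
      ⟨x.1, (Opens.mem_iSup.mp ((le_iSup U i) x.2)).choose_spec, x.2⟩
  · exact congrFun (hs (Opens.mem_iSup.mp x.2).choose) ⟨x.1, (Opens.mem_iSup.mp x.2).choose_spec⟩

/-- The product of skyscrapers. -/
def G : SheafOfModules.{u} A where
  val := gPre A J
  isSheaf := isSheaf_gAb J

variable {A J}

/-- A morphism to the product of skyscrapers from maps on stalks. -/
def toG (M : SheafOfModules.{u} A) (l : ∀ x : X, Mx M x →ₗ[Ax A x] J x) : M ⟶ G A J where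
  val := PresheafOfModules.homMk
    { app := fun U => AddCommGrpCat.ofHom
        { toFun := fun (s : M.val.obj U) (x : U.unop) => l x.1 (mgerm M x.2 s)
          map_zero' := funext fun x => by
            exact (congrArg (l x.1) (map_zero (TopCat.Presheaf.germ M.val.presheaf U.unop x.1 x.2).hom)).trans
              (map_zero _)
          map_add' := fun a b => funext fun x => by
            exact (congrArg (l x.1) (map_add (TopCat.Presheaf.germ M.val.presheaf U.unop x.1 x.2).hom a b)).trans
              (map_add _ _ _) }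
      naturality := fun U V i => by
        ext (s : M.val.obj U)
        exact funext fun (x : V.unop) =>
          congrArg (l x.1) (TopCat.Presheaf.germ_res_apply M.val.presheaf i.unop x.1 x.2 s) }
    fun U a s => funext fun (x : U.unop) => by
      show l x.1 (mgerm M x.2 (a • (show M.val.obj U from s))) = agerm (A := A) x.2 a • l x.1 (mgerm M x.2 s)
      rw [mgerm_smul, map_smul]

theorem toG_app (M : SheafOfModules.{u} A) (l : ∀ x : X, Mx M x →ₗ[Ax A x] J x) {U : X.Opens}
    (s : M.val.obj (op U)) (x : U) : (show GSec J U from (toG M l).val.app (op U) s) x = l x.1 (mgerm M x.2 s) := rfl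

theorem mono_toG (M : SheafOfModules.{u} A) (l : ∀ x : X, Mx M x →ₗ[Ax A x] J x)
    (hl : ∀ x, Function.Injective (l x)) : Mono (toG M l) := by
  refine ⟨fun {Z} g h e => ?_⟩
  apply (SheafOfModules.forget A).map_injective
  refine PresheafOfModules.hom_ext fun U => ModuleCat.hom_ext (LinearMap.ext fun z => ?_)
  refine TopCat.Presheaf.section_ext ((SheafOfModules.toSheaf A).obj M) U.unop _ _ fun x hx => ?_
  apply hl x
  exact congrFun (congrArg (fun k : Z ⟶ G A J => (show GSec J U.unop from k.val.app U z)) e) ⟨x, hx⟩

variable (φ : X.ringCatSheaf ⟶ A)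

/-- The value of a morphism to the product of skyscrapers on a section. -/
def gval {N : X.Modules} (g : N ⟶ (R φ).obj (G A J)) {U : X.Opens} (s : Γ(N, U)) : GSec J U :=
  g.app U s

theorem gval_res {N : X.Modules} (g : N ⟶ (R φ).obj (G A J)) {U V : X.Opens} (i : V ⟶ U) (s : Γ(N, U)) (x : V) :
    gval φ g (N.presheaf.map i.op s) x = gval φ g s ⟨x.1, i.le x.2⟩ := by
  have := ConcreteCategory.congr_hom (g.mapPresheaf.naturality i.op) s
  exact congrFun this x

theorem gval_eq_of_germ_eq {N : X.Modules} (g : N ⟶ (R φ).obj (G A J)) {U V : X.Opens} {x : X} (hU : x ∈ U)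
    (hV : x ∈ V) (s : Γ(N, U)) (t : Γ(N, V)) (h : N.presheaf.germ U x hU s = N.presheaf.germ V x hV t) :
    gval φ g s ⟨x, hU⟩ = gval φ g t ⟨x, hV⟩ := by
  obtain ⟨W, hW, iU, iV, e⟩ := TopCat.Presheaf.germ_eq N.presheaf x hU hV s t h
  rw [← gval_res φ g iU s ⟨x, hW⟩, ← gval_res φ g iV t ⟨x, hW⟩]
  exact congrArg (fun z => gval φ g z ⟨x, hW⟩) e

theorem gval_add {N : X.Modules} (g : N ⟶ (R φ).obj (G A J)) {U : X.Opens} (s t : Γ(N, U)) (x : U) :
    gval φ g (s + t) x = gval φ g s x + gval φ g t x := congrFun (map_add (g.app U).hom s t) x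

theorem gval_smul {N : X.Modules} (g : N ⟶ (R φ).obj (G A J)) {U : X.Opens} (r : Γ(X, U)) (s : Γ(N, U)) (x : U) :
    gval φ g (r • s) x = rho φ x.1 (X.presheaf.germ U x.1 x.2 r) • gval φ g s x := by
  rw [rho_germ]
  exact congrFun (Scheme.Modules.Hom.app_smul g r s) x

variable {φ}

/-- Restriction of a product of skyscrapers of injective modules is injective. -/
theorem injective_R_G (hcen : IsCentral φ)
    (hflat : ∀ x : X, @Module.Flat (X.presheaf.stalk x) (Ax A x) _ _ (hcen.algebra x).toModule)
    [∀ x, Module.Injective (Ax A x) (J x)] : Injective ((R φ).obj (G A J)) := by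
  letI := fun x => hcen.algebra x
  letI := fun x => Module.compHom (J x) (rho φ x)
  haveI : ∀ x, IsScalarTower (X.presheaf.stalk x) (Ax A x) (J x) := fun x => ⟨fun c a j => mul_smul (rho φ x c) a j⟩
  haveI : ∀ x, Module.Injective (X.presheaf.stalk x) (J x) := fun x =>
    haveI := hflat x
    injective_restrict (B := Ax A x) (J x)
  refine ⟨fun {N N'} g f hf => ?_⟩
  have hex : ∀ (x : X) (z : N.presheaf.stalk x), ∃ (U : X.Opens) (hU : x ∈ U) (s : Γ(N, U)),
      N.presheaf.germ U x hU s = z := fun x z => TopCat.Presheaf.exists_germ_eq N.presheaf z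
  choose UU hU ss hss using hex
  have key : ∀ (x : X) {V : X.Opens} (hV : x ∈ V) (s : Γ(N, V)),
      gval φ g (ss x (N.presheaf.germ V x hV s)) ⟨x, hU x _⟩ = gval φ g s ⟨x, hV⟩ := fun x V hV s =>
    gval_eq_of_germ_eq φ g _ hV _ _ (hss x _)
  let gl : ∀ x, N.presheaf.stalk x →ₗ[X.presheaf.stalk x] J x := fun x =>
    { toFun := fun z => gval φ g (ss x z) ⟨x, hU x z⟩
      map_add' := fun z w => by
        obtain ⟨U, hxU, s, rfl⟩ := TopCat.Presheaf.exists_germ_eq N.presheaf z
        obtain ⟨V, hxV, t, rfl⟩ := TopCat.Presheaf.exists_germ_eq N.presheaf w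
        have hW : x ∈ U ⊓ V := ⟨hxU, hxV⟩
        rw [← TopCat.Presheaf.germ_res_apply N.presheaf (homOfLE (inf_le_left : U ⊓ V ≤ U)) x hW s,
          ← TopCat.Presheaf.germ_res_apply N.presheaf (homOfLE (inf_le_right : U ⊓ V ≤ V)) x hW t, ← map_add,
          key, key, key, gval_add]
      map_smul' := fun c z => by
        obtain ⟨U, hxU, r, s, rfl, rfl⟩ := Modules.StalkModule.exists_germ_eq₂ c z
        rw [← Modules.StalkModule.germ_smul, key, key, gval_smul]
        rfl }
  have hfs : ∀ x, Function.Injective (Modules.StalkModule.stalkMapₗ f x) := fun x => by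
    haveI : Mono ((Modules.StalkModule.stalkModFunctor X x).map f) := inferInstance
    exact (ModuleCat.mono_iff_injective _).1 this
  choose hl hhl using fun x => Module.Injective.out (Modules.StalkModule.stalkMapₗ f x) (hfs x) (gl x)
  let h : N' ⟶ (R φ).obj (G A J) :=
    { val := PresheafOfModules.homMk
        { app := fun U => AddCommGrpCat.ofHom
            { toFun := fun (s : Γ(N', U.unop)) (x : U.unop) => hl x.1 (N'.presheaf.germ U.unop x.1 x.2 s)
              map_zero' := funext fun x => by
                exact (congrArg (hl x.1) (map_zero (N'.presheaf.germ U.unop x.1 x.2).hom)).trans (map_zero _)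
              map_add' := fun a b => funext fun x => by
                exact (congrArg (hl x.1) (map_add (N'.presheaf.germ U.unop x.1 x.2).hom a b)).trans (map_add _ _ _) }
          naturality := fun U V i => by
            ext (s : Γ(N', U.unop))
            exact funext fun (x : V.unop) =>
              congrArg (hl x.1) (TopCat.Presheaf.germ_res_apply N'.presheaf i.unop x.1 x.2 s) }
        fun U r s => funext fun (x : U.unop) => by
          show hl x.1 (N'.presheaf.germ U.unop x.1 x.2 ((show Γ(X, U.unop) from r) • (show Γ(N', U.unop) from s))) =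
            agerm (A := A) x.2 (phiU φ U.unop r) • hl x.1 (N'.presheaf.germ U.unop x.1 x.2 s)
          rw [Modules.StalkModule.germ_smul, map_smul]
          exact congrArg (· • hl x.1 (N'.presheaf.germ U.unop x.1 x.2 s)) (rho_germ φ x.2 r) }
  refine ⟨h, ?_⟩
  ext U s
  refine funext fun (x : U) => ?_
  show hl x.1 (N'.presheaf.germ U x.1 x.2 (f.app U s)) = gval φ g s x
  rw [← Modules.StalkModule.stalkMapₗ_germ, hhl]
  exact key x.1 x.2 s

/-- Restriction of scalars along a flat central sheaf of algebras preserves injective objects. -/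
theorem injective_R_obj (hcen : IsCentral φ) (hflat : FlatMod.IsFlat (X := X) ((R φ).obj (SheafOfModules.unit A)))
    (I : SheafOfModules.{u} A) [Injective I] : Injective ((R φ).obj I) := by
  have hp : ∀ x : X, Nonempty (InjectivePresentation (ModuleCat.of (Ax A x) (Mx I x))) :=
    fun x => EnoughInjectives.presentation _
  let P := fun x => (hp x).some
  haveI : ∀ x, Mono (P x).f := fun x => (P x).mono
  haveI : ∀ x, Injective (P x).J := fun x => (P x).injective
  haveI : ∀ x, Module.Injective (Ax A x) (P x).J := fun x => Module.injective_module_of_injective_object _ _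
  let t := toG (J := fun x => (P x).J) I fun x => (P x).f.hom
  haveI : Mono t := mono_toG _ _ fun x => (ModuleCat.mono_iff_injective _).1 inferInstance
  haveI := injective_R_G (J := fun x => (P x).J) hcen fun x => flat_Ax hcen hflat x
  let r := Injective.factorThru (𝟙 I) t
  have hr : t ≫ r = 𝟙 I := Injective.comp_factorThru _ _
  exact (Retract.map ⟨t, r, hr⟩ (R φ)).injective

end Groth.Agent.Lib.CentralAlg27
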