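import Groth.Prelude.Def_FlatMod2
import Mathlib.Algebra.Category.ModuleCat.Stalk
import Mathlib.Algebra.Category.ModuleCat.Sheaf.ChangeOfRings
import Mathlib.AlgebraicGeometry.Modules.Sheaf
import Groth.Agent.Lib.Modules.StalkModule

/-!
# Stalks for a central sheaf of algebras on a scheme
-/

set_option autoImplicit false
universe u

open CategoryTheory CategoryTheory.Limits AlgebraicGeometry Opposite TopologicalSpace

noncomputable section

namespace Groth.Agent.Lib.CentralAlg27

variable {X : Scheme.{u}} {A : Sheaf (Opens.grothendieckTopology X) RingCat.{u}}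
  (φ : X.ringCatSheaf ⟶ A)

/-- The stalk of a sheaf of rings. -/
abbrev Ax (A : Sheaf (Opens.grothendieckTopology X) RingCat.{u}) (x : X) : Type u :=
  ↑(TopCat.Presheaf.stalk (C := RingCat.{u}) A.obj x)

/-- The sections of the structure map. -/
def phiU (U : X.Opens) : Γ(X, U) →+* A.obj.obj (op U) := (φ.hom.app (op U)).hom

/-- The germ of a section of a sheaf of rings. -/
def agerm {U : X.Opens} {x : X} (hx : x ∈ U) : A.obj.obj (op U) →+* Ax A x :=
  (TopCat.Presheaf.germ (C := RingCat.{u}) A.obj U x hx).hom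

theorem agerm_res {U V : X.Opens} (i : V ⟶ U) {x : X} (hx : x ∈ V) (a : A.obj.obj (op U)) :
    agerm (A := A) hx (A.obj.map i.op a) = agerm (i.le hx) a :=
  TopCat.Presheaf.germ_res_apply (C := RingCat.{u}) A.obj i x hx a

theorem phiU_res {U V : X.Opens} (i : V ⟶ U) (r : Γ(X, U)) :
    phiU φ V (X.presheaf.map i.op r) = A.obj.map i.op (phiU φ U r) :=
  ConcreteCategory.congr_hom (φ.hom.naturality i.op) r

theorem agerm_phiU_eq {x : X} {U V : X.Opens} (hU : x ∈ U) (hV : x ∈ V) (r : Γ(X, U)) (s : Γ(X, V))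
    (h : X.presheaf.germ U x hU r = X.presheaf.germ V x hV s) :
    agerm hU (phiU φ U r) = agerm hV (phiU φ V s) := by
  obtain ⟨W, hW, iU, iV, e⟩ := TopCat.Presheaf.germ_eq X.presheaf x hU hV r s h
  rw [← agerm_res iU hW, ← agerm_res iV hW, ← phiU_res, ← phiU_res]
  exact congrArg _ (congrArg _ e)

theorem exists_rep2 {x : X} (a b : X.presheaf.stalk x) : ∃ (U : X.Opens) (hU : x ∈ U) (r s : Γ(X, U)),
    X.presheaf.germ U x hU r = a ∧ X.presheaf.germ U x hU s = b := by
  obtain ⟨U, hU, r, rfl⟩ := TopCat.Presheaf.exists_germ_eq X.presheaf a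
  obtain ⟨V, hV, s, rfl⟩ := TopCat.Presheaf.exists_germ_eq X.presheaf b
  exact ⟨U ⊓ V, ⟨hU, hV⟩, X.presheaf.map (homOfLE inf_le_left).op r, X.presheaf.map (homOfLE inf_le_right).op s,
    TopCat.Presheaf.germ_res_apply X.presheaf _ _ _ _, TopCat.Presheaf.germ_res_apply X.presheaf _ _ _ _⟩

/-- The stalk of the structure map, as a function. -/
def rhoFun (x : X) (c : X.presheaf.stalk x) : Ax A x :=
  agerm (TopCat.Presheaf.exists_germ_eq X.presheaf c).choose_spec.choose
    (phiU φ _ (TopCat.Presheaf.exists_germ_eq X.presheaf c).choose_spec.choose_spec.choose)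

theorem rhoFun_germ {x : X} {U : X.Opens} (hU : x ∈ U) (r : Γ(X, U)) :
    rhoFun φ x (X.presheaf.germ U x hU r) = agerm hU (phiU φ U r) :=
  agerm_phiU_eq φ _ _ _ _
    (TopCat.Presheaf.exists_germ_eq X.presheaf (X.presheaf.germ U x hU r)).choose_spec.choose_spec.choose_spec

/-- The stalk of the structure map. -/
def rho (x : X) : X.presheaf.stalk x →+* Ax A x where
  toFun := rhoFun φ x
  map_one' := (congrArg (rhoFun φ x) (map_one (X.presheaf.germ ⊤ x trivial).hom).symm).trans
    ((rhoFun_germ φ (U := ⊤) trivial 1).trans (by rw [map_one, map_one]))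
  map_zero' := (congrArg (rhoFun φ x) (map_zero (X.presheaf.germ ⊤ x trivial).hom).symm).trans
    ((rhoFun_germ φ (U := ⊤) trivial 0).trans (by rw [map_zero, map_zero]))
  map_add' a b := by
    obtain ⟨U, hU, r, s, rfl, rfl⟩ := exists_rep2 a b
    rw [← map_add, rhoFun_germ, rhoFun_germ, rhoFun_germ, map_add, map_add]
  map_mul' a b := by
    obtain ⟨U, hU, r, s, rfl, rfl⟩ := exists_rep2 a b
    rw [← map_mul, rhoFun_germ, rhoFun_germ, rhoFun_germ, map_mul, map_mul]

theorem rho_germ {x : X} {U : X.Opens} (hU : x ∈ U) (r : Γ(X, U)) :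
    rho φ x (X.presheaf.germ U x hU r) = agerm hU (phiU φ U r) :=
  rhoFun_germ φ hU r

/-- Centrality of a structure map. -/
def IsCentral : Prop :=
  ∀ (U : (Opens X)ᵒᵖ) (s : X.ringCatSheaf.obj.obj U) (a : A.obj.obj U),
    φ.hom.app U s * a = a * φ.hom.app U s

variable {φ}

theorem IsCentral.rho_comm (h : IsCentral φ) {x : X} (c : X.presheaf.stalk x) (a : Ax A x) :
    rho φ x c * a = a * rho φ x c := by
  obtain ⟨U, hU, r, rfl⟩ := TopCat.Presheaf.exists_germ_eq X.presheaf c
  obtain ⟨V, hV, a, rfl⟩ := TopCat.Presheaf.exists_germ_eq (C := RingCat.{u}) A.obj a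
  have hW : x ∈ U ⊓ V := ⟨hU, hV⟩
  rw [← TopCat.Presheaf.germ_res_apply X.presheaf (homOfLE (inf_le_left : U ⊓ V ≤ U)) x hW r,
    ← TopCat.Presheaf.germ_res_apply (C := RingCat.{u}) A.obj (homOfLE (inf_le_right : U ⊓ V ≤ V)) x hW a, rho_germ]
  have := congrArg (agerm (A := A) hW) (h (op (U ⊓ V)) (X.presheaf.map (homOfLE inf_le_left).op r)
    (A.obj.map (homOfLE inf_le_right).op a))
  rw [map_mul, map_mul] at this
  exact this

/-- The stalk algebra. -/
@[reducible] def IsCentral.algebra (h : IsCentral φ) (x : X) : Algebra (X.presheaf.stalk x) (Ax A x) :=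
  (rho φ x).toAlgebra' h.rho_comm

/-- The stalk of a module over the sheaf of algebras. -/
abbrev Mx (M : SheafOfModules.{u} A) (x : X) : Type u :=
  ↑(TopCat.Presheaf.stalk (C := AddCommGrpCat.{u}) M.val.presheaf x)

/-- The germ of a section of a module. -/
abbrev mgerm (M : SheafOfModules.{u} A) {U : X.Opens} {x : X} (hx : x ∈ U) (m : M.val.obj (op U)) : Mx M x :=
  TopCat.Presheaf.germ (C := AddCommGrpCat.{u}) M.val.presheaf U x hx m

instance moduleMx (M : SheafOfModules.{u} A) (x : X) : Module (Ax A x) (Mx M x) :=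
  inferInstanceAs (Module (TopCat.Presheaf.stalk (C := RingCat.{u}) A.obj x)
    ↑(TopCat.Presheaf.stalk (PresheafOfModules.presheaf M.val) x))

theorem mgerm_smul (M : SheafOfModules.{u} A) {U : X.Opens} {x : X} (hx : x ∈ U) (a : A.obj.obj (op U))
    (m : M.val.obj (op U)) : mgerm M hx (a • m) = agerm hx a • mgerm M hx m :=
  PresheafOfModules.germ_ringCat_smul (R := A.obj) M.val x U hx a m

variable (φ)

/-- Restriction of scalars to the structure sheaf. -/
abbrev R : SheafOfModules.{u} A ⥤ X.Modules := SheafOfModules.restrictScalars φ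

theorem rgerm_smul (M : SheafOfModules.{u} A) (x : X) (c : X.presheaf.stalk x)
    (m : ((R φ).obj M).presheaf.stalk x) : c • m = rho φ x c • (show Mx M x from m) := by
  obtain ⟨U, hU, r, rfl⟩ := TopCat.Presheaf.exists_germ_eq X.presheaf c
  obtain ⟨V, hV, m, rfl⟩ := TopCat.Presheaf.exists_germ_eq ((R φ).obj M).presheaf m
  have hW : x ∈ U ⊓ V := ⟨hU, hV⟩
  rw [← TopCat.Presheaf.germ_res_apply X.presheaf (homOfLE (inf_le_left : U ⊓ V ≤ U)) x hW r,
    ← TopCat.Presheaf.germ_res_apply ((R φ).obj M).presheaf (homOfLE (inf_le_right : U ⊓ V ≤ V)) x hW m,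
    ← Modules.StalkModule.germ_smul, rho_germ]
  exact mgerm_smul M hW _ _

end Groth.Agent.Lib.CentralAlg27
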